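import Cfsg.Agent.FiSylTwoThree.Group
import Cfsg.Agent.FiSylTwoThree.FixData
import Cfsg.Prelude.Def_Transfer
import Cfsg.Agent.Eq.Def_Transfer

/-!
Elementary abelian subgroups of the Sylow 2-subgroup `T0` not inside `E0` have order at most `2 ^ 10`.
-/

set_option autoImplicit false
set_option maxRecDepth 100000
set_option maxHeartbeats 4000000

namespace CfsgLib.FiSylTwo3

open CfsgLib.CosetEnum.Fi23

/-- the action of a listed involutory word -/
def ikey (p : ℕ) : List ℕ := key (invoL.getD p 0)

/-- the product of two listed words, or 36 if they do not commute -/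
def mulI (p q : ℕ) : ℕ := (mulL.getD p []).getD q 36

/-- the elements of a node -/
def members (S : ℕ) : List ℕ := (List.range 36).filter fun p => S.testBit p

/-- the node extended by a further element -/
def ext (S p : ℕ) : ℕ := (members S).foldl (fun T q => T ||| 2 ^ mulI p q) S

/-- the vectors fixed by a node -/
def fixedBy (S : ℕ) : ℕ := (members S).foldl (fun F q => F &&& fixL.getD q 0) (2 ^ 2048 - 1)

theorem invo_lt : (List.range 36).all (fun p => (invoL.getD p 0).blt 128) = true := by decide +kernel

theorem invo_complete : (List.range 128).all (fun i =>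
    !((key i).map (sel (key i)) == keyOf [] 0) ||
      (List.range 36).any fun p => Nat.beq (invoL.getD p 0) i) = true := by decide +kernel

theorem invo_zero : invoL.getD 0 0 = 0 := by decide +kernel

theorem mulI_check : (List.range 36).all (fun p => (List.range 36).all fun q =>
    if (ikey q).map (sel (ikey p)) == (ikey p).map (sel (ikey q))
    then (mulI p q).blt 36 && (ikey (mulI p q) == (ikey q).map (sel (ikey p)))
    else true) = true := by decide +kernel

theorem ikey_self : (List.range 36).all (fun p =>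
    (List.range 11).map (fun j => sel (ikey p) (2 ^ j)) == ikey p) = true := by decide +kernel

theorem fix_basis_check : (List.range 36).all (fun p =>
    ((List.zipWith (fun x y => x ^^^ y)
      (List.zipWith (fun x y => x ^^^ y) ((ikey p).map (sel (pinvL.getD p []))) (pinvL.getD p []))
      ((coordL.getD p []).map (sel (kerBasisL.getD p []))) == keyOf [] 0) &&
      ((pinvL.getD p []).length == 11) && ((coordL.getD p []).length == 11) &&
      ((ikey p).length == 11) &&
      (coordL.getD p []).all (fun c => c.blt (2 ^ (kerBasisL.getD p []).length)) &&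
      (List.range (2 ^ (kerBasisL.getD p []).length)).all fun u =>
        (fixL.getD p 0).testBit (sel (kerBasisL.getD p []) u))) = true := by decide +kernel

theorem sel_zipWith : ∀ (A B : List ℕ), A.length = B.length → ∀ v,
    sel (List.zipWith (fun x y => x ^^^ y) A B) v = sel A v ^^^ sel B v
  | [], [], _, v => by simp [sel]
  | [], b :: B, h, v => by simp at h
  | a :: A, [], h, v => by simp at h
  | a :: A, b :: B, h, v => by
    simp only [List.zipWith_cons_cons, sel]
    rw [sel_zipWith A B (by simpa using h) (v / 2)]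
    split <;> simp [Nat.xor_assoc, Nat.xor_left_comm]

theorem sel_lt_pow {n : ℕ} : ∀ (cs : List ℕ), (∀ c ∈ cs, c < 2 ^ n) → ∀ v, sel cs v < 2 ^ n
  | [], _, v => by simp [sel]
  | c :: cs, h, v => by
    refine Nat.xor_lt_two_pow ?_ (sel_lt_pow cs (fun x hx => h x (List.mem_cons_of_mem _ hx)) _)
    split
    · exact h c List.mem_cons_self
    · exact Nat.two_pow_pos n

theorem fix_check {p v : ℕ} (hp : p < 36) (hv : v < 2048) (h : sel (ikey p) v = v) :
    (fixL.getD p 0).testBit v = true := by
  have hc := List.all_eq_true.1 fix_basis_check p (List.mem_range.2 hp)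
  simp only [Bool.and_eq_true, beq_iff_eq, List.all_eq_true, Nat.blt, Nat.ble_eq] at hc
  obtain ⟨⟨⟨⟨⟨hz, hP⟩, hR⟩, hK⟩, hRlt⟩, hall⟩ := hc
  have hs := congrArg (fun L => sel L v) hz
  beta_reduce at hs
  rw [sel_zipWith _ _ (by simp [hP, hR, hK, -List.getD_eq_getElem?_getD]),
    sel_zipWith _ _ (by simp [hP, hK, -List.getD_eq_getElem?_getD]),
    ← sel_map_sel, ← sel_map_sel, h, Nat.xor_self, Nat.zero_xor,
    show keyOf [] 0 = [1, 2, 4, 8, 16, 32, 64, 128, 256, 512, 1024] from rfl, sel_id hv] at hs
  have := hall _ (List.mem_range.2 (sel_lt_pow (coordL.getD p [])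
    (fun c hc => hRlt c hc) v))
  rwa [hs] at this

theorem node_one : (1 : ℕ) ∈ nodeL := by decide +kernel

theorem node_mem : nodeL.map members = nodeMemL := by decide +kernel

/-- the node with given elements extended by a further element -/
def extL (S p : ℕ) (ms : List ℕ) : ℕ := ms.foldl (fun T q => T ||| 2 ^ mulI p q) S

theorem node_closed_aux : (nodeL.zip nodeMemL).all (fun e => e.1.testBit 0 &&
    (List.range 36).all fun p => e.1.testBit p || e.2.any (fun q => !((mulI p q).blt 36)) ||
      nodeL.contains (extL e.1 p e.2)) = true := by decide +kernel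

theorem node_closed : nodeL.all (fun S => S.testBit 0 && (List.range 36).all fun p => S.testBit p ||
    (members S).any (fun q => !((mulI p q).blt 36)) || nodeL.contains (ext S p)) = true := by
  rw [List.all_eq_true]
  intro S hS
  refine List.all_eq_true.1 node_closed_aux (S, members S) ?_
  rw [← node_mem, List.zip_map_right, List.mem_map]
  exact ⟨(S, S), by
    obtain ⟨k, hk, rfl⟩ := List.mem_iff_getElem.1 hS
    exact List.mem_iff_getElem.2 ⟨k, by simpa using hk, by simp⟩, rfl⟩

theorem mulI_zero_check : (List.range 36).all (fun p => Nat.beq (mulI p 0) p) = true := by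
  decide +kernel

theorem mulI_zero {p : ℕ} (hp : p < 36) : mulI p 0 = p :=
  Nat.eq_of_beq_eq_true (List.all_eq_true.1 mulI_zero_check p (List.mem_range.2 hp))

/-- the mask of a list of vectors -/
def maskOf (l : List ℕ) : ℕ := l.foldl (fun T q => T ||| 2 ^ id q) 0

theorem node_fix : nodeL.map (fun S => if S = 1 then 0 else fixedBy S) = nodeFixL.map maskOf := by
  decide +kernel

theorem node_bound : (nodeL.zip nodeFixL).all (fun e =>
    Nat.beq e.1 1 || ((members e.1).length * e.2.length).ble 1024) = true := by decide +kernel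

theorem testBit_foldl_or (l : List ℕ) (f : ℕ → ℕ) : ∀ (S r : ℕ),
    (l.foldl (fun T q => T ||| 2 ^ f q) S).testBit r = true ↔
      S.testBit r = true ∨ ∃ q ∈ l, f q = r := by
  induction l with
  | nil => intro S r; simp
  | cons a l ih =>
    intro S r
    rw [List.foldl_cons, ih, Nat.testBit_lor, Bool.or_eq_true, Nat.testBit_two_pow, decide_eq_true_iff,
      or_assoc]
    constructor
    · rintro (h | h | ⟨q, hq, h⟩)
      · exact Or.inl h
      · exact Or.inr ⟨a, List.mem_cons_self, h⟩
      · exact Or.inr ⟨q, List.mem_cons_of_mem _ hq, h⟩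
    · rintro (h | ⟨q, hq, h⟩)
      · exact Or.inl h
      · rcases List.mem_cons.1 hq with rfl | hq
        · exact Or.inr (Or.inl h)
        · exact Or.inr (Or.inr ⟨q, hq, h⟩)

theorem testBit_foldl_and (l : List ℕ) (f : ℕ → ℕ) : ∀ (S r : ℕ),
    (l.foldl (fun T q => T &&& f q) S).testBit r = true ↔
      S.testBit r = true ∧ ∀ q ∈ l, (f q).testBit r = true := by
  induction l with
  | nil => intro S r; simp
  | cons a l ih =>
    intro S r
    rw [List.foldl_cons, ih, Nat.testBit_land, Bool.and_eq_true, List.forall_mem_cons, and_assoc]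

theorem mem_members {S p : ℕ} : p ∈ members S ↔ p < 36 ∧ S.testBit p = true := by
  simp [members]

/-- An element acts as the listed word `p`. -/
def ActsAs (g : Cfsg.Spor.Fi23) (p : ℕ) : Prop :=
  ∀ w < 2048, g * eV w * g⁻¹ = eV (sel (ikey p) w)

theorem ikey_lt {p : ℕ} (hp : p < 36) {w : ℕ} (hw : w < 2048) : sel (ikey p) w < 2048 := by
  have h := List.all_eq_true.1 invo_lt p (List.mem_range.2 hp)
  simp only [Nat.blt, Nat.ble_eq] at h
  exact (conj_sV h hw).2

theorem actsAs_mul {a b : Cfsg.Spor.Fi23} {p q : ℕ} (hq : q < 36) (ha : ActsAs a p)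
    (hb : ActsAs b q) (w : ℕ) (hw : w < 2048) :
    (a * b) * eV w * (a * b)⁻¹ = eV (sel ((ikey q).map (sel (ikey p))) w) := by
  rw [← sel_map_sel, ← ha _ (ikey_lt hq hw), ← hb w hw]
  group

theorem comp_self {p q : ℕ} (hp : p < 36) (hq : q < 36) :
    (List.range 11).map (fun j => sel ((ikey q).map (sel (ikey p))) (2 ^ j)) =
      (ikey q).map (sel (ikey p)) := by
  have hs := eq_of_beq (List.all_eq_true.1 ikey_self q (List.mem_range.2 hq))
  conv_rhs => rw [← hs, List.map_map]
  exact List.map_congr_left fun j _ => (sel_map_sel (ikey p) (ikey q) _).symm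

theorem exists_actsAs {A : Subgroup Cfsg.Spor.Fi23} (hA : A ≤ T0) (h2 : ∀ a ∈ A, a ^ 2 = 1)
    {a : Cfsg.Spor.Fi23} (ha : a ∈ A) :
    ∃ p < 36, ∃ v < 2048, a = eV v * sV (invoL.getD p 0) ∧ ActsAs a p := by
  obtain ⟨v, i, hv, hi, e⟩ := stage_form 7 le_rfl a (hA ha)
  have hi' : i < 128 := hi
  have hact : ∀ w < 2048, a * eV w * a⁻¹ = eV (sel (key i) w) := fun w hw => by
    rw [e]; exact conj_form hi' v hw
  have hinv : ∀ w < 2048, sel (key i) (sel (key i) w) = w := by
    intro w hw
    have h1 := (conj_sV hi' hw).2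
    refine eV_inj (conj_sV hi' h1).2 hw ?_
    rw [← hact _ h1, ← hact w hw]
    have haa : a * a = 1 := by rw [← pow_two]; exact h2 a ha
    rw [inv_eq_of_mul_eq_one_right haa, show a * (a * eV w * a) * a = (a * a) * eV w * (a * a) by group,
      haa, one_mul, mul_one]
  have hid : (key i).map (sel (key i)) = keyOf [] 0 := by
    conv_lhs => arg 2; rw [← key_self hi']
    rw [List.map_map,
      show keyOf [] 0 = (List.range 11).map (fun j => 2 ^ j) by decide +kernel]
    exact List.map_congr_left fun j hj => hinv _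
      (lt_of_lt_of_le (Nat.pow_lt_pow_right (by norm_num) (List.mem_range.1 hj)) (by norm_num))
  have h := List.all_eq_true.1 invo_complete i (List.mem_range.2 hi')
  rw [hid] at h
  simp only [beq_self_eq_true, Bool.not_true, Bool.false_or, List.any_eq_true, List.mem_range] at h
  obtain ⟨p, hp, he⟩ := h
  have he' := Nat.eq_of_beq_eq_true he
  refine ⟨p, hp, v, hv, by rw [he', e], fun w hw => ?_⟩
  rw [ikey, he']
  exact hact w hw

theorem actsAs_form {a : Cfsg.Spor.Fi23} {p i v : ℕ} (hp : p < 36) (hi : i < 128)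
    (e : a = eV v * sV i) (h : ActsAs a p) : i = invoL.getD p 0 := by
  have hlt := List.all_eq_true.1 invo_lt p (List.mem_range.2 hp)
  simp only [Nat.blt, Nat.ble_eq] at hlt
  exact key_inj hi hlt (index_eq hi (key_self hlt) (fun u hu => (conj_sV hlt hu).2) e h)

/-- The bound on elementary abelian subgroups outside `E0`. -/
theorem card_le_of_not_le {A : Subgroup Cfsg.Spor.Fi23} (hA : A ≤ T0)
    (hel : Cfsg.IsElementaryAbelian 2 A) (hne : ¬ A ≤ E0) : Nat.card A ≤ 2 ^ 10 := by
  obtain ⟨hcomm, h2⟩ := hel
  have hc : ∀ a ∈ A, ∀ b ∈ A, a * b = b * a := fun a ha b hb =>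
    congrArg Subtype.val (hcomm.is_comm.comm (⟨a, ha⟩ : A) ⟨b, hb⟩)
  classical
  let J : ℕ → Prop := fun p => p < 36 ∧ ∃ a ∈ A, ActsAs a p
  have hclosed : ∀ p q, J p → J q →
      (ikey q).map (sel (ikey p)) = (ikey p).map (sel (ikey q)) ∧
        mulI p q < 36 ∧ J (mulI p q) := by
    rintro p q ⟨hp, a, ha, hap⟩ ⟨hq, b, hb, hbq⟩
    have heq : (ikey q).map (sel (ikey p)) = (ikey p).map (sel (ikey q)) := by
      rw [← comp_self hp hq, ← comp_self hq hp]
      refine List.map_congr_left fun j hj => ?_
      have hw : 2 ^ j < 2048 :=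
        lt_of_lt_of_le (Nat.pow_lt_pow_right (by norm_num) (List.mem_range.1 hj)) (by norm_num)
      have h1 : sel ((ikey q).map (sel (ikey p))) (2 ^ j) < 2048 := by
        rw [← sel_map_sel]; exact ikey_lt hp (ikey_lt hq hw)
      have h3 : sel ((ikey p).map (sel (ikey q))) (2 ^ j) < 2048 := by
        rw [← sel_map_sel]; exact ikey_lt hq (ikey_lt hp hw)
      refine eV_inj h1 h3 ?_
      rw [← actsAs_mul hq hap hbq _ hw, ← actsAs_mul hp hbq hap _ hw, hc a ha b hb]
    have h := List.all_eq_true.1 (List.all_eq_true.1 mulI_check p (List.mem_range.2 hp)) q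
      (List.mem_range.2 hq)
    rw [if_pos (by rw [heq]; exact beq_self_eq_true _)] at h
    simp only [Bool.and_eq_true, Nat.blt, Nat.ble_eq, beq_iff_eq] at h
    exact ⟨heq, h.1, h.1, a * b, mul_mem ha hb, fun w hw => by
      rw [actsAs_mul hq hap hbq w hw, h.2]⟩
  have h1 : ActsAs 1 0 := fun w hw => by
    rw [ikey, invo_zero, key_eq (by norm_num), show keyOf colL 0 = keyOf [] 0 by decide +kernel,
      keyOf, sel_id hw]
    group
  let good : Finset ℕ := nodeL.toFinset.filter fun S => ∀ p ∈ members S, J p
  have hone : (1 : ℕ) ∈ good := by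
    refine Finset.mem_filter.2 ⟨List.mem_toFinset.2 node_one, fun p hp => ?_⟩
    rw [mem_members, Nat.testBit_one_eq_true_iff_self_eq_zero] at hp
    rw [hp.2]
    exact ⟨by norm_num, 1, one_mem _, h1⟩
  obtain ⟨S, hS, hmax⟩ := good.exists_max_image (fun S => (members S).length) ⟨1, hone⟩
  obtain ⟨hSn, hSJ⟩ := Finset.mem_filter.1 hS
  rw [List.mem_toFinset] at hSn
  have hall : ∀ p, J p → p ∈ members S := by
    intro p hp
    by_contra hpS
    have h := List.all_eq_true.1 node_closed S hSn
    simp only [Bool.and_eq_true] at h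
    have h0 : 0 ∈ members S := mem_members.2 ⟨by norm_num, h.1⟩
    have h' := List.all_eq_true.1 h.2 p (List.mem_range.2 hp.1)
    simp only [Bool.or_eq_true, List.any_eq_true, Bool.not_eq_true', List.contains_iff_mem] at h'
    rcases h' with (h' | ⟨q, hq, h'⟩) | h'
    · exact hpS (mem_members.2 ⟨hp.1, h'⟩)
    · obtain ⟨-, hlt, -⟩ := hclosed p q hp (hSJ q hq)
      rw [show (mulI p q).blt 36 = true by simpa [Nat.blt, Nat.ble_eq] using hlt] at h'
      exact Bool.noConfusion h'
    · have hmem : ∀ r, (ext S p).testBit r = true ↔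
          S.testBit r = true ∨ ∃ q ∈ members S, mulI p q = r := testBit_foldl_or _ _ _
      have hgood : ext S p ∈ good := by
        refine Finset.mem_filter.2 ⟨List.mem_toFinset.2 h', fun r hr => ?_⟩
        rcases (hmem r).1 (mem_members.1 hr).2 with h | ⟨q, hq, rfl⟩
        · exact hSJ r (mem_members.2 ⟨(mem_members.1 hr).1, h⟩)
        · exact (hclosed p q hp (hSJ q hq)).2.2
      have hlen : (members S).toFinset ⊂ (members (ext S p)).toFinset := by
        refine Finset.ssubset_iff_subset_ne.2 ⟨fun r hr => ?_, fun e => ?_⟩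
        · rw [List.mem_toFinset] at hr ⊢
          exact mem_members.2 ⟨(mem_members.1 hr).1, (hmem r).2 (Or.inl (mem_members.1 hr).2)⟩
        · refine hpS (List.mem_toFinset.1 (e.symm ▸ List.mem_toFinset.2 ?_))
          refine mem_members.2 ⟨hp.1, (hmem p).2 (Or.inr ⟨0, h0, ?_⟩)⟩
          exact mulI_zero hp.1
      have hnd : ∀ R, (members R).toFinset.card = (members R).length := fun R =>
        List.toFinset_card_of_nodup (List.nodup_range.filter _)
      have := Finset.card_lt_card hlen
      rw [hnd, hnd] at this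
      exact absurd (hmax _ hgood) (not_le.2 this)
  have hne1 : S ≠ 1 := by
    rintro rfl
    refine hne fun a ha => ?_
    obtain ⟨p, hp, v, hv, e, hact⟩ := exists_actsAs hA h2 ha
    have h := (mem_members.1 (hall p ⟨hp, a, ha, hact⟩)).2
    rw [Nat.testBit_one_eq_true_iff_self_eq_zero] at h
    rw [h, invo_zero, sV_zero, mul_one] at e
    exact mem_E0.2 ⟨v, hv, e⟩
  obtain ⟨k, hk, hkS⟩ := List.mem_iff_getElem.1 hSn
  have hlen : nodeL.length = nodeFixL.length := by
    simpa using congrArg List.length node_fix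
  obtain ⟨fixed, hfx⟩ : ∃ l, l = nodeFixL[k]'(hlen ▸ hk) := ⟨_, rfl⟩
  have hmask : fixedBy S = maskOf fixed := by
    have h := List.getElem_of_eq node_fix (i := k) (by simpa using hk)
    simpa [hkS, hne1, ← hfx] using h
  have hbound : (members S).length * fixed.length ≤ 1024 := by
    have h := List.all_eq_true.1 node_bound (S, fixed) (List.mem_iff_getElem.2
      ⟨k, by simp [hk, ← hlen], by simp [hkS, hfx]⟩)
    rw [Bool.or_eq_true, Nat.ble_eq] at h
    exact h.resolve_left fun h => hne1 (Nat.eq_of_beq_eq_true h)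
  have hfix : ∀ w < 2048, eV w ∈ A → w ∈ fixed := by
    intro w hw hwA
    have hbit : (fixedBy S).testBit w = true := by
      rw [fixedBy, testBit_foldl_and]
      refine ⟨by rw [Nat.testBit_two_pow_sub_one]; simpa using hw, fun q hq => ?_⟩
      obtain ⟨hq36, b, hb, hbq⟩ := hSJ q hq
      refine fix_check hq36 hw (eV_inj (ikey_lt hq36 hw) hw ?_)
      rw [← hbq w hw, hc b hb _ hwA, mul_inv_cancel_right]
    rw [hmask, maskOf, testBit_foldl_or] at hbit
    simpa using hbit
  have hex : ∀ a : A, ∃ p ∈ members S, ∃ v < 2048, (a : Cfsg.Spor.Fi23) = eV v * sV (invoL.getD p 0) := by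
    intro a
    obtain ⟨p, hp, v, hv, e, hact⟩ := exists_actsAs hA h2 a.2
    exact ⟨p, hall p ⟨hp, a, a.2, hact⟩, v, hv, e⟩
  choose P hP V hV hPV using hex
  have : Finite A := Finite.of_injective (fun a : A =>
      ((⟨P a, (mem_members.1 (hP a)).1⟩ : Fin 36), (⟨V a, hV a⟩ : Fin 2048))) fun a b h => by
    simp only [Prod.mk.injEq, Fin.mk.injEq] at h
    exact Subtype.ext (by rw [hPV a, hPV b, h.1, h.2])
  have := Fintype.ofFinite A
  rw [Nat.card_eq_fintype_card, ← Finset.card_univ]
  have hfib : ∀ p ∈ (Finset.univ : Finset A).image P,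
      ((Finset.univ : Finset A).filter fun a => P a = p).card ≤ fixed.length := by
    intro p hp
    obtain ⟨a0, -, rfl⟩ := Finset.mem_image.1 hp
    refine (Finset.card_le_card_of_injOn (fun a => V a ^^^ V a0) ?_ ?_).trans fixed.toFinset_card_le
    · intro a ha
      have hpa : P a = P a0 := (Finset.mem_filter.1 ha).2
      refine List.mem_toFinset.2 (hfix _ (xor_lt (hV a) (hV a0)) ?_)
      have h := mul_mem a.2 (inv_mem a0.2)
      rw [hPV a, hPV a0, hpa] at h
      rwa [mul_inv_rev, mul_assoc, mul_inv_cancel_left, eV_inv, ← eV_xor] at h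
    · intro a ha b hb h
      have h' : V a = V b := by
        have := congrArg (fun x => x ^^^ V a0) h
        simpa [Nat.xor_assoc] using this
      exact Subtype.ext (by
        rw [hPV a, hPV b, h', (Finset.mem_filter.1 ha).2, (Finset.mem_filter.1 hb).2])
  refine le_trans (Finset.card_le_mul_card_image (Finset.univ : Finset A) _ hfib) ?_
  refine le_trans (Nat.mul_le_mul_left _ ?_) (le_trans (le_of_eq (Nat.mul_comm _ _)) hbound)
  refine le_trans (Finset.card_le_card (Finset.image_subset_iff.2
    fun a _ => List.mem_toFinset.2 (hP a))) (members S).toFinset_card_le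

end CfsgLib.FiSylTwo3
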