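import Cfsg.Agent.FiSylTwoThree.Words

/-!
A subgroup of order `2 ^ 18` of the presented Fischer group Fi23: a normal elementary abelian subgroup
of order `2 ^ 11` extended by seven further involutions acting faithfully on it.
-/

set_option autoImplicit false
set_option maxRecDepth 100000
set_option maxHeartbeats 4000000

namespace CfsgLib.FiSylTwo3

open CfsgLib.CosetEnum CfsgLib.CosetEnum.Fi23

theorem data_small : eL.all smallW = true ∧ sL.all smallW = true := by decide +kernel

theorem eL_small (w : List ℕ) (hw : w ∈ eL) : smallW w = true :=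
  List.all_eq_true.1 data_small.1 w hw

theorem sL_small (w : List ℕ) (hw : w ∈ sL) : smallW w = true :=
  List.all_eq_true.1 data_small.2 w hw

theorem eL_check : eL.all (fun a => (sigW (a ++ a) == sigW []) &&
    eL.all fun b => sigW (a ++ b) == sigW (b ++ a)) = true := by decide +kernel

theorem eL_sq (a : List ℕ) (ha : a ∈ eL) : val a * val a = 1 := by
  have h := List.all_eq_true.1 eL_check a ha
  simp only [Bool.and_eq_true, beq_iff_eq] at h
  rw [← val_app, ← val_nil]
  exact val_eq_of_sig (by rw [smallW_append, eL_small a ha]; rfl) rfl h.1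

theorem eL_comm (a : List ℕ) (ha : a ∈ eL) (b : List ℕ) (hb : b ∈ eL) :
    Commute (val a) (val b) := by
  have h := List.all_eq_true.1 eL_check a ha
  simp only [Bool.and_eq_true, beq_iff_eq, List.all_eq_true] at h
  show val a * val b = val b * val a
  rw [← val_app, ← val_app]
  refine val_eq_of_sig ?_ ?_ (h.2 b hb) <;> rw [smallW_append, eL_small a ha, eL_small b hb] <;> rfl

theorem commute_cat {g : Cfsg.Spor.Fi23} : ∀ (ws : List (List ℕ)),
    (∀ a ∈ ws, Commute g (val a)) → ∀ v, Commute g (val (cat ws v))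
  | [], _, v => by rw [cat, val_nil]; exact Commute.one_right g
  | w :: ws, h, v => by
    rw [cat, val_app]
    refine Commute.mul_right ?_ (commute_cat ws (fun a ha => h a (List.mem_cons_of_mem _ ha)) _)
    split
    · exact h w List.mem_cons_self
    · rw [val_nil]; exact Commute.one_right g

theorem val_cat_xor : ∀ (ws : List (List ℕ)), (∀ a ∈ ws, ∀ b ∈ ws, Commute (val a) (val b)) →
    (∀ a ∈ ws, val a * val a = 1) → ∀ v w,
    val (cat ws (v ^^^ w)) = val (cat ws v) * val (cat ws w)
  | [], _, _, v, w => by simp [cat, val_nil]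
  | a :: ws, hc, hs, v, w => by
    have ih := val_cat_xor ws (fun x hx y hy => hc x (List.mem_cons_of_mem _ hx) y
      (List.mem_cons_of_mem _ hy)) (fun x hx => hs x (List.mem_cons_of_mem _ hx)) (v / 2) (w / 2)
    have hca : ∀ u, Commute (val a) (val (cat ws u)) :=
      commute_cat ws fun x hx => hc a List.mem_cons_self x (List.mem_cons_of_mem _ hx)
    have hm : (v ^^^ w) % 2 = (v % 2 + w % 2) % 2 := by
      rw [← Nat.add_mod]
      exact Nat.xor_mod_two_eq
    simp only [cat, Nat.xor_div_two, val_app, ih]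
    rcases Nat.mod_two_eq_zero_or_one v with hv | hv <;>
      rcases Nat.mod_two_eq_zero_or_one w with hw | hw <;>
      simp only [hm, hv, hw, Nat.reduceAdd, Nat.reduceMod, if_true, if_false, Nat.zero_ne_one,
        val_nil, one_mul]
    · rw [← mul_assoc, (hca (v / 2)).eq, mul_assoc]
    · rw [mul_assoc]
    · rw [mul_assoc, ← mul_assoc (val (cat ws (v / 2))) (val a), ← (hca (v / 2)).eq, ← mul_assoc,
        ← mul_assoc, hs a List.mem_cons_self, one_mul]

/-- the element of the abelian subgroup with given coordinates -/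
noncomputable def eV (v : ℕ) : Cfsg.Spor.Fi23 := val (cat eL v)

theorem eV_zero : eV 0 = 1 := by
  rw [eV, show cat eL 0 = [] by decide +kernel, val_nil]

theorem eV_xor (v w : ℕ) : eV (v ^^^ w) = eV v * eV w := val_cat_xor eL eL_comm eL_sq v w

theorem eV_inv (v : ℕ) : (eV v)⁻¹ = eV v :=
  inv_eq_of_mul_eq_one_right (by rw [← eV_xor, Nat.xor_self, eV_zero])

theorem eV_comm (v w : ℕ) : Commute (eV v) (eV w) := by
  show eV v * eV w = eV w * eV v
  rw [← eV_xor, ← eV_xor, Nat.xor_comm]

theorem loSig_check : (List.range 64).map (fun v => sigW (cat eL v)) = loSig := by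
  decide +kernel

theorem hiSig_check : (List.range 32).map (fun v => sigW (cat eL (64 * v))) = hiSig := by
  decide +kernel

theorem sig_pairs : (List.range 64).all (fun l => (List.range 32).all fun h =>
    !(loSig.getD l [] == hiSig.getD h []) || (Nat.beq l 0 && Nat.beq h 0)) = true := by
  decide +kernel

theorem split_check : (List.range 2048).all (fun v =>
    Nat.beq v ((v % 64) ^^^ (64 * (v / 64)))) = true := by decide +kernel

theorem eV_eq_one {v : ℕ} (hv : v < 2048) (h : eV v = 1) : v = 0 := by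
  have hsplit := Nat.eq_of_beq_eq_true (List.all_eq_true.1 split_check v (List.mem_range.2 hv))
  have he : eV (v % 64) = eV (64 * (v / 64)) := by
    rw [hsplit, eV_xor] at h
    rw [← eV_inv (64 * (v / 64))]
    exact eq_inv_of_mul_eq_one_left h
  have hl : v % 64 < 64 := Nat.mod_lt _ (by norm_num)
  have hh : v / 64 < 32 := by omega
  have hs := sig_eq_of_val (smallW_cat eL eL_small _) (smallW_cat eL eL_small _) he
  have hp := List.all_eq_true.1 (List.all_eq_true.1 sig_pairs _ (List.mem_range.2 hl)) _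
    (List.mem_range.2 hh)
  rw [← loSig_check, ← hiSig_check] at hp
  rw [List.getD_eq_getElem _ _ (by simp; omega), List.getD_eq_getElem _ _ (by simp; omega)] at hp
  simp only [List.getElem_map, List.getElem_range, hs, beq_self_eq_true, Bool.not_true,
    Bool.false_or, Bool.and_eq_true] at hp
  have h1 := Nat.eq_of_beq_eq_true hp.1
  have h2 := Nat.eq_of_beq_eq_true hp.2
  omega

theorem xor_lt {v w : ℕ} (hv : v < 2048) (hw : w < 2048) : v ^^^ w < 2048 :=
  Nat.xor_lt_two_pow (n := 11) hv hw

theorem eV_inj {v w : ℕ} (hv : v < 2048) (hw : w < 2048) (h : eV v = eV w) : v = w := by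
  have h1 : eV (v ^^^ w) = 1 := by rw [eV_xor, h, ← eV_xor, Nat.xor_self, eV_zero]
  have h2 := eV_eq_one (xor_lt hv hw) h1
  calc v = v ^^^ (v ^^^ w) := by rw [h2, Nat.xor_zero]
    _ = w := by rw [← Nat.xor_assoc, Nat.xor_self, Nat.zero_xor]

/-- the word moves the listed words as the masks say -/
def colsOK (g : Cfsg.Spor.Fi23) : List (List ℕ) → List ℕ → Prop
  | [], [] => True
  | w :: ws, c :: cs => g * val w * g⁻¹ = eV c ∧ colsOK g ws cs
  | _, _ => False

/-- the check of `colsOK` -/
noncomputable def colsB (s : List ℕ) : List (List ℕ) → List ℕ → Bool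
  | [], [] => true
  | w :: ws, c :: cs => (sigW (s ++ w) == sigW (cat eL c ++ s)) && c.blt 2048 && colsB s ws cs
  | _, _ => false

theorem colsOK_of_colsB {s : List ℕ} (hs : smallW s = true) :
    ∀ (ws : List (List ℕ)) (cs : List ℕ), (∀ w ∈ ws, smallW w = true) → colsB s ws cs = true →
      colsOK (val s) ws cs
  | [], [], _, _ => trivial
  | [], c :: cs, _, h => Bool.noConfusion h
  | w :: ws, [], _, h => Bool.noConfusion h
  | w :: ws, c :: cs, hw, h => by
    simp only [colsB, Bool.and_eq_true, beq_iff_eq] at h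
    refine ⟨mul_inv_eq_of_eq_mul ?_, colsOK_of_colsB hs ws cs
      (fun x hx => hw x (List.mem_cons_of_mem _ hx)) h.2⟩
    rw [eV, ← val_app, ← val_app]
    refine val_eq_of_sig ?_ ?_ h.1.1
    · rw [smallW_append, hs, hw w List.mem_cons_self]; rfl
    · rw [smallW_append, hs, smallW_cat eL eL_small c]; rfl

theorem conj_cat (g : Cfsg.Spor.Fi23) : ∀ (ws : List (List ℕ)) (cs : List ℕ), colsOK g ws cs →
    ∀ v, g * val (cat ws v) * g⁻¹ = eV (sel cs v)
  | [], [], _, v => by simp [cat, sel, val_nil, eV_zero]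
  | [], c :: cs, h, v => h.elim
  | w :: ws, [], h, v => h.elim
  | w :: ws, c :: cs, h, v => by
    rw [cat, sel, val_app, eV_xor, ← conj_cat g ws cs h.2 (v / 2)]
    rcases Nat.mod_two_eq_zero_or_one v with hv | hv
    · simp [hv, val_nil, eV_zero]
    · rw [if_pos hv, if_pos hv, ← h.1]
      group

theorem cols_check : (List.range 7).all (fun k =>
    colsB (sL.getD k []) eL (colL.getD k [])) = true := by decide +kernel

theorem colL_lt : colL.all (fun cs => cs.all fun c => c.blt 2048) = true := by decide +kernel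

theorem sL_getD_small (k : ℕ) : smallW (sL.getD k []) = true := by
  rcases Nat.lt_or_ge k sL.length with h | h
  · rw [List.getD_eq_getElem _ _ h]; exact sL_small _ (List.getElem_mem h)
  · rw [List.getD_eq_default _ _ h]; rfl

theorem conj_gen {k : ℕ} (hk : k < 7) (v : ℕ) :
    val (sL.getD k []) * eV v * (val (sL.getD k []))⁻¹ = eV (sel (colL.getD k []) v) :=
  conj_cat _ eL _ (colsOK_of_colsB (sL_getD_small k) eL _ eL_small
    (List.all_eq_true.1 cols_check k (List.mem_range.2 hk))) v

/-- the action of a normal word on the coordinates -/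
def keyOf : List (List ℕ) → ℕ → List ℕ
  | [], _ => [1, 2, 4, 8, 16, 32, 64, 128, 256, 512, 1024]
  | c :: cs, i => if i % 2 = 1 then (keyOf cs (i / 2)).map (sel c) else keyOf cs (i / 2)

theorem sel_id_check : (List.range 2048).all (fun v =>
    Nat.beq (sel [1, 2, 4, 8, 16, 32, 64, 128, 256, 512, 1024] v) v) = true := by decide +kernel

theorem sel_id {v : ℕ} (hv : v < 2048) :
    sel [1, 2, 4, 8, 16, 32, 64, 128, 256, 512, 1024] v = v :=
  Nat.eq_of_beq_eq_true (List.all_eq_true.1 sel_id_check v (List.mem_range.2 hv))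

theorem conj_cat_key : ∀ (ws : List (List ℕ)) (cs : List (List ℕ)), ws.length = cs.length →
    (∀ k < ws.length, ∀ v < 2048, val (ws.getD k []) * eV v * (val (ws.getD k []))⁻¹ =
      eV (sel (cs.getD k []) v) ∧ sel (cs.getD k []) v < 2048) →
    ∀ i, ∀ v < 2048, val (cat ws i) * eV v * (val (cat ws i))⁻¹ = eV (sel (keyOf cs i) v) ∧
      sel (keyOf cs i) v < 2048
  | [], [], _, _, i, v, hv => by
    simp only [cat, keyOf, val_nil, sel_id hv]
    exact ⟨by group, hv⟩
  | [], c :: cs, h, _, _, _, _ => by simp at h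
  | w :: ws, [], h, _, _, _, _ => by simp at h
  | w :: ws, c :: cs, hl, h, i, v, hv => by
    obtain ⟨ih, hlt⟩ := conj_cat_key ws cs (by simpa using hl)
      (fun k hk => by simpa using h (k + 1) (by simpa using hk)) (i / 2) v hv
    rw [cat, keyOf]
    rcases Nat.mod_two_eq_zero_or_one i with hi | hi
    · simp only [hi, if_neg, Nat.zero_ne_one, not_false_iff, List.nil_append]
      exact ⟨ih, hlt⟩
    · obtain ⟨h1, h2⟩ := h 0 (by simp) _ hlt
      simp only [List.getD_cons_zero] at h1 h2
      rw [if_pos hi, if_pos hi, ← sel_map_sel]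
      refine ⟨?_, h2⟩
      rw [val_app, ← h1, ← ih]
      group

theorem keyL_check : (List.range 128).map (keyOf colL) = keyL := by decide +kernel

/-- the action of a normal word on the coordinates, from the table -/
def key (i : ℕ) : List ℕ := keyL.getD i []

theorem key_eq {i : ℕ} (hi : i < 128) : key i = keyOf colL i := by
  rw [key, ← keyL_check, List.getD_eq_getElem _ _ (by simp; omega), List.getElem_map,
    List.getElem_range]

/-- the normal word with given exponents -/
noncomputable def sV (i : ℕ) : Cfsg.Spor.Fi23 := val (cat sL i)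

theorem conj_sV {i : ℕ} (hi : i < 128) {v : ℕ} (hv : v < 2048) :
    sV i * eV v * (sV i)⁻¹ = eV (sel (key i) v) ∧ sel (key i) v < 2048 := by
  rw [key_eq hi]
  have hlen : sL.length = 7 ∧ colL.length = 7 := by decide +kernel
  refine conj_cat_key sL colL (hlen.1.trans hlen.2.symm)
    (fun k hk v _ => ⟨conj_gen (hlen.1 ▸ hk) v, ?_⟩) i v hv
  refine sel_lt _ (fun c hc => ?_) v
  have hk' : k < colL.length := by rw [hlen.2, ← hlen.1]; exact hk
  rw [List.getD_eq_getElem _ _ hk'] at hc
  simpa [Nat.blt, Nat.ble_eq] using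
    List.all_eq_true.1 (List.all_eq_true.1 colL_lt _ (List.getElem_mem hk')) c hc

theorem cat_step_check : (List.range 7).all (fun k => (List.range (2 ^ k)).all fun i =>
    cat sL (i + 2 ^ k) == cat sL i ++ sL.getD k []) = true := by decide +kernel

theorem sV_step {k i : ℕ} (hk : k < 7) (hi : i < 2 ^ k) :
    sV (i + 2 ^ k) = sV i * val (sL.getD k []) := by
  have h := List.all_eq_true.1 (List.all_eq_true.1 cat_step_check k (List.mem_range.2 hk)) i
    (List.mem_range.2 hi)
  rw [sV, sV, eq_of_beq h, val_app]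

theorem rel_check : (List.range 7).all (fun k => (sigW (sL.getD k [] ++ sL.getD k []) == sigW []) &&
    (List.range k).all fun j =>
      (conjL.getD (k * (k - 1) / 2 + j) (0, 0, 0, 0)).2.2.1.blt 2048 &&
      (conjL.getD (k * (k - 1) / 2 + j) (0, 0, 0, 0)).2.2.2.blt (2 ^ k) &&
      (sigW (sL.getD k [] ++ sL.getD j []) ==
        sigW (cat eL (conjL.getD (k * (k - 1) / 2 + j) (0, 0, 0, 0)).2.2.1 ++
          cat sL (conjL.getD (k * (k - 1) / 2 + j) (0, 0, 0, 0)).2.2.2 ++ sL.getD k []))) = true := by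
  decide +kernel

theorem sgen_sq {k : ℕ} (hk : k < 7) : val (sL.getD k []) * val (sL.getD k []) = 1 := by
  have h := List.all_eq_true.1 rel_check k (List.mem_range.2 hk)
  simp only [Bool.and_eq_true, beq_iff_eq] at h
  rw [← val_app, ← val_nil]
  exact val_eq_of_sig (by rw [smallW_append, sL_getD_small]; rfl) rfl h.1

theorem sgen_conj {k j : ℕ} (hk : k < 7) (hj : j < k) : ∃ v i, v < 2048 ∧ i < 2 ^ k ∧
    val (sL.getD k []) * val (sL.getD j []) * (val (sL.getD k []))⁻¹ = eV v * sV i := by
  have h := List.all_eq_true.1 rel_check k (List.mem_range.2 hk)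
  simp only [Bool.and_eq_true, List.all_eq_true, beq_iff_eq, Nat.blt, Nat.ble_eq] at h
  obtain ⟨⟨hv, hi⟩, he⟩ := h.2 j (List.mem_range.2 hj)
  refine ⟨_, _, hv, hi, mul_inv_eq_of_eq_mul ?_⟩
  rw [eV, sV, ← val_app, ← val_app, ← val_app]
  refine val_eq_of_sig ?_ ?_ he
  · rw [smallW_append, sL_getD_small, sL_getD_small]; rfl
  · rw [smallW_append, smallW_append, smallW_cat eL eL_small, smallW_cat sL sL_small,
      sL_getD_small]; rfl

/-- the subgroup of the abelian part and the first `k` further generators -/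
noncomputable def stage (k : ℕ) : Subgroup Cfsg.Spor.Fi23 :=
  Subgroup.closure ({g | ∃ w ∈ eL, val w = g} ∪ {g | ∃ j < k, val (sL.getD j []) = g})

theorem stage_mono {j k : ℕ} (h : j ≤ k) : stage j ≤ stage k :=
  Subgroup.closure_mono (Set.union_subset_union_right _
    fun g ⟨i, hi, hg⟩ => ⟨i, lt_of_lt_of_le hi h, hg⟩)

theorem val_cat_mem (H : Subgroup Cfsg.Spor.Fi23) : ∀ (ws : List (List ℕ)),
    (∀ w ∈ ws, val w ∈ H) → ∀ v, val (cat ws v) ∈ H
  | [], _, v => by rw [cat, val_nil]; exact one_mem _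
  | w :: ws, h, v => by
    rw [cat, val_app]
    refine mul_mem ?_ (val_cat_mem H ws (fun a ha => h a (List.mem_cons_of_mem _ ha)) _)
    split
    · exact h w List.mem_cons_self
    · rw [val_nil]; exact one_mem _

theorem eV_mem (k v : ℕ) : eV v ∈ stage k :=
  val_cat_mem _ eL (fun w hw => Subgroup.subset_closure (Or.inl ⟨w, hw, rfl⟩)) v

theorem sV_zero : sV 0 = 1 := by
  rw [sV, show cat sL 0 = [] by decide +kernel, val_nil]

theorem sV_mem : ∀ {k : ℕ}, k ≤ 7 → ∀ {i : ℕ}, i < 2 ^ k → sV i ∈ stage k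
  | 0, _, i, hi => by
    rw [show i = 0 by simpa using hi, sV_zero]
    exact one_mem _
  | k + 1, hk, i, hi => by
    rcases Nat.lt_or_ge i (2 ^ k) with h | h
    · exact stage_mono k.le_succ (sV_mem (by omega) h)
    · obtain ⟨j, rfl⟩ := Nat.exists_eq_add_of_le' h
      rw [pow_succ] at hi
      rw [sV_step (by omega) (by omega)]
      exact mul_mem (stage_mono k.le_succ (sV_mem (by omega) (by omega)))
        (Subgroup.subset_closure (Or.inr ⟨k, k.lt_succ_self, rfl⟩))

theorem eL_index {w : List ℕ} (hw : w ∈ eL) : ∃ v < 2048, val w = eV v := by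
  have h : ∀ a ∈ eL, ∃ j < 11, cat eL (2 ^ j) = a := by decide +kernel
  obtain ⟨j, hj, rfl⟩ := h w hw
  exact ⟨2 ^ j, lt_of_lt_of_le (Nat.pow_lt_pow_right (by norm_num) hj) (by norm_num), rfl⟩

theorem mem_or_mul_mem {G : Type*} [Group G] (H : Subgroup G) (s : G) (hs : s * s = 1)
    (hn : ∀ h ∈ H, s * h * s⁻¹ ∈ H) {g : G} (hg : g ∈ Subgroup.closure ((H : Set G) ∪ {s})) :
    g ∈ H ∨ g * s ∈ H := by
  have hi : s⁻¹ = s := inv_eq_of_mul_eq_one_right hs
  induction hg using Subgroup.closure_induction with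
  | mem x hx =>
    rcases hx with h | h
    · exact Or.inl h
    · exact Or.inr (by rw [Set.mem_singleton_iff.1 h, hs]; exact one_mem _)
  | one => exact Or.inl (one_mem _)
  | mul a b _ _ ha hb =>
    rcases ha with ha | ha <;> rcases hb with hb | hb
    · exact Or.inl (mul_mem ha hb)
    · exact Or.inr (by rw [mul_assoc]; exact mul_mem ha hb)
    · refine Or.inr ?_
      have := mul_mem ha (hn b hb)
      rw [hi] at this
      rwa [show a * s * (s * b * s) = a * (s * s) * b * s by group, hs, mul_one] at this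
    · refine Or.inl ?_
      have := mul_mem ha (hn (b * s) hb)
      rw [hi] at this
      rwa [show a * s * (s * (b * s) * s) = a * (s * s) * b * (s * s) by group, hs, mul_one,
        mul_one] at this
  | inv a _ ha =>
    rcases ha with ha | ha
    · exact Or.inl (inv_mem ha)
    · refine Or.inr ?_
      have := inv_mem (hn (a * s) ha)
      rwa [show (s * (a * s) * s⁻¹)⁻¹ = a⁻¹ * s⁻¹ by group, hi] at this

theorem stage_form : ∀ (k : ℕ), k ≤ 7 → ∀ g ∈ stage k,
    ∃ v i, v < 2048 ∧ i < 2 ^ k ∧ g = eV v * sV i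
  | 0, _, g, hg => by
    rw [stage] at hg
    induction hg using Subgroup.closure_induction with
    | mem x hx =>
      rcases hx with ⟨w, hw, rfl⟩ | ⟨j, hj, rfl⟩
      · obtain ⟨v, hv, e⟩ := eL_index hw
        exact ⟨v, 0, hv, by norm_num, by rw [e, sV_zero, mul_one]⟩
      · omega
    | one => exact ⟨0, 0, by norm_num, by norm_num, by rw [eV_zero, sV_zero, mul_one]⟩
    | mul a b _ _ ha hb =>
      obtain ⟨v, i, hv, hi, rfl⟩ := ha
      obtain ⟨w, j, hw, hj, rfl⟩ := hb
      rw [pow_zero, Nat.lt_one_iff] at hi hj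
      subst hi; subst hj
      exact ⟨v ^^^ w, 0, xor_lt hv hw, by norm_num, by rw [sV_zero, eV_xor]; group⟩
    | inv a _ ha =>
      obtain ⟨v, i, hv, hi, rfl⟩ := ha
      rw [pow_zero, Nat.lt_one_iff] at hi
      subst hi
      exact ⟨v, 0, hv, by norm_num, by rw [sV_zero, mul_one, eV_inv]⟩
  | k + 1, hk, g, hg => by
    have hle : stage (k + 1) ≤
        Subgroup.closure ((stage k : Set Cfsg.Spor.Fi23) ∪ {val (sL.getD k [])}) := by
      refine (Subgroup.closure_le _).2 ?_
      rintro x (⟨w, hw, rfl⟩ | ⟨j, hj, rfl⟩)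
      · exact Subgroup.subset_closure (Or.inl (Subgroup.subset_closure (Or.inl ⟨w, hw, rfl⟩)))
      · rcases Nat.lt_succ_iff_lt_or_eq.1 hj with h | rfl
        · exact Subgroup.subset_closure (Or.inl (Subgroup.subset_closure (Or.inr ⟨j, h, rfl⟩)))
        · exact Subgroup.subset_closure (Or.inr rfl)
    have hn : ∀ h ∈ stage k,
        val (sL.getD k []) * h * (val (sL.getD k []))⁻¹ ∈ stage k := by
      have hm : stage k ≤ (stage k).comap (MulAut.conj (val (sL.getD k []))).toMonoidHom := by
        refine (Subgroup.closure_le _).2 ?_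
        rintro x (⟨w, hw, rfl⟩ | ⟨j, hj, rfl⟩)
        · obtain ⟨v, -, e⟩ := eL_index hw
          show val (sL.getD k []) * val w * (val (sL.getD k []))⁻¹ ∈ stage k
          rw [e, conj_gen (by omega)]
          exact eV_mem _ _
        · obtain ⟨v, i, -, hi, e⟩ := sgen_conj (show k < 7 by omega) hj
          show val (sL.getD k []) * val (sL.getD j []) * (val (sL.getD k []))⁻¹ ∈ stage k
          rw [e]
          exact mul_mem (eV_mem _ _) (sV_mem (by omega) hi)
      exact fun h hh => hm hh
    rcases mem_or_mul_mem _ _ (sgen_sq (by omega)) hn (hle hg) with h | h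
    · obtain ⟨v, i, hv, hi, rfl⟩ := stage_form k (by omega) g h
      exact ⟨v, i, hv, lt_of_lt_of_le hi (Nat.pow_le_pow_right (by norm_num) k.le_succ), rfl⟩
    · obtain ⟨v, i, hv, hi, e⟩ := stage_form k (by omega) _ h
      refine ⟨v, i + 2 ^ k, hv, by rw [pow_succ]; omega, ?_⟩
      rw [sV_step (by omega) hi, ← mul_assoc, ← e, mul_assoc, sgen_sq (by omega), mul_one]

theorem keyL_self : keyL.all (fun K => (List.range 11).map (fun j => sel K (2 ^ j)) == K) = true := by
  decide +kernel

theorem keyL_nodup : keyL.Nodup := by decide +kernel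

theorem keyL_length : keyL.length = 128 := by decide +kernel

theorem key_self {i : ℕ} (hi : i < 128) :
    (List.range 11).map (fun j => sel (key i) (2 ^ j)) = key i := by
  have hm : key i ∈ keyL := by
    rw [key, List.getD_eq_getElem _ _ (by rw [keyL_length]; exact hi)]
    exact List.getElem_mem _
  exact eq_of_beq (List.all_eq_true.1 keyL_self _ hm)

theorem key_inj {i j : ℕ} (hi : i < 128) (hj : j < 128) (h : key i = key j) : i = j := by
  rw [key, key, List.getD_eq_getElem _ _ (by rw [keyL_length]; exact hi),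
    List.getD_eq_getElem _ _ (by rw [keyL_length]; exact hj)] at h
  exact keyL_nodup.getElem_inj_iff.1 h

theorem conj_form {i : ℕ} (hi : i < 128) (v : ℕ) {w : ℕ} (hw : w < 2048) :
    (eV v * sV i) * eV w * (eV v * sV i)⁻¹ = eV (sel (key i) w) := by
  have h := (conj_sV hi hw).1
  calc (eV v * sV i) * eV w * (eV v * sV i)⁻¹ = eV v * (sV i * eV w * (sV i)⁻¹) * (eV v)⁻¹ := by group
    _ = eV (sel (key i) w) := by rw [h, (eV_comm v _).eq, mul_inv_cancel_right]

/-- An index is determined by the action on the abelian part. -/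
theorem index_eq {i : ℕ} (hi : i < 128) {K : List ℕ}
    (hK : (List.range 11).map (fun j => sel K (2 ^ j)) = K) (hlt : ∀ w < 2048, sel K w < 2048)
    {g : Cfsg.Spor.Fi23} {v : ℕ} (hg : g = eV v * sV i)
    (h : ∀ w < 2048, g * eV w * g⁻¹ = eV (sel K w)) : key i = K := by
  rw [← key_self hi, ← hK]
  refine List.map_congr_left fun j hj => ?_
  have hw : 2 ^ j < 2048 :=
    lt_of_lt_of_le (Nat.pow_lt_pow_right (by norm_num) (List.mem_range.1 hj)) (by norm_num)
  refine eV_inj (conj_sV hi hw).2 (hlt _ hw) ?_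
  rw [← conj_form hi v hw, ← h _ hw, hg]

theorem form_inj {v w i j : ℕ} (hv : v < 2048) (hw : w < 2048) (hi : i < 128) (hj : j < 128)
    (h : eV v * sV i = eV w * sV j) : v = w ∧ i = j := by
  have hij : i = j := key_inj hi hj (index_eq hi (key_self hj)
    (fun u hu => (conj_sV hj hu).2) h.symm (fun u hu => conj_form hj w hu))
  subst hij
  exact ⟨eV_inj hv hw (mul_right_cancel h), rfl⟩

/-- the subgroup of order `2 ^ 18` -/
noncomputable def T0 : Subgroup Cfsg.Spor.Fi23 := stage 7

/-- its elementary abelian normal subgroup -/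
noncomputable def E0 : Subgroup Cfsg.Spor.Fi23 := stage 0

theorem card_T0 : Nat.card T0 = 2 ^ 18 := by
  have hb : Function.Bijective (fun p : Fin 2048 × Fin 128 =>
      (⟨eV p.1 * sV p.2, mul_mem (eV_mem _ _) (sV_mem le_rfl p.2.2)⟩ : T0)) := by
    constructor
    · intro p q h
      obtain ⟨h1, h2⟩ := form_inj p.1.2 q.1.2 p.2.2 q.2.2 (Subtype.ext_iff.1 h)
      exact Prod.ext (Fin.ext h1) (Fin.ext h2)
    · rintro ⟨g, hg⟩
      obtain ⟨v, i, hv, hi, rfl⟩ := stage_form 7 le_rfl g hg
      exact ⟨(⟨v, hv⟩, ⟨i, hi⟩), rfl⟩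
  rw [← Nat.card_eq_of_bijective _ hb]
  simp

theorem mem_E0 {g : Cfsg.Spor.Fi23} : g ∈ E0 ↔ ∃ v < 2048, g = eV v := by
  constructor
  · intro h
    obtain ⟨v, i, hv, hi, rfl⟩ := stage_form 0 (by norm_num) g h
    rw [pow_zero, Nat.lt_one_iff] at hi
    exact ⟨v, hv, by rw [hi, sV_zero, mul_one]⟩
  · rintro ⟨v, -, rfl⟩
    exact eV_mem _ _

theorem card_E0 : Nat.card E0 = 2 ^ 11 := by
  have hb : Function.Bijective (fun p : Fin 2048 => (⟨eV p, eV_mem _ _⟩ : E0)) := by
    constructor
    · intro p q h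
      exact Fin.ext (eV_inj p.2 q.2 (Subtype.ext_iff.1 h))
    · rintro ⟨g, hg⟩
      obtain ⟨v, hv, rfl⟩ := mem_E0.1 hg
      exact ⟨⟨v, hv⟩, rfl⟩
  rw [← Nat.card_eq_of_bijective _ hb]
  simp

end CfsgLib.FiSylTwo3
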