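import Cfsg.Agent.CosetEnum.Fi23.Cover
import Cfsg.Agent.FiSylTwoThree.Data

/-!
Words of the presented Fischer group Fi23 and their signatures on the base points.
-/

set_option autoImplicit false
set_option maxRecDepth 100000
set_option maxHeartbeats 4000000

namespace CfsgLib.FiSylTwo3

open CfsgLib.CosetEnum CfsgLib.CosetEnum.Fi23

/-- the product of the words selected by the bits of a number -/
def cat : List (List ℕ) → ℕ → List ℕ
  | [], _ => []
  | w :: ws, v => (if v % 2 = 1 then w else []) ++ cat ws (v / 2)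

/-- the sum of the masks selected by the bits of a number -/
def sel : List ℕ → ℕ → ℕ
  | [], _ => 0
  | c :: cs, v => (if v % 2 = 1 then c else 0) ^^^ sel cs (v / 2)

/-- all letters are below ten -/
def smallW (w : List ℕ) : Bool := w.all fun x => x.blt 10

/-- the images of the base points -/
noncomputable def sigW (w : List ℕ) : List ℕ :=
  basePts.map fun i => runT Tab.perm.T Tab.perm.L w i

/-- the value of a word -/
noncomputable def val (w : List ℕ) : Cfsg.Spor.Fi23 := gword g10 w

theorem smallW_iff {w : List ℕ} : smallW w = true ↔ ∀ x ∈ w, x < 10 := by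
  simp [smallW, Nat.blt, Nat.ble_eq]

theorem smallW_append (v w : List ℕ) : smallW (v ++ w) = (smallW v && smallW w) := by
  simp [smallW]

theorem smallW_cat (ws : List (List ℕ)) (h : ∀ w ∈ ws, smallW w = true) (v : ℕ) :
    smallW (cat ws v) = true := by
  induction ws generalizing v with
  | nil => rfl
  | cons w ws ih =>
    rw [cat, smallW_append, ih (fun u hu => h u (List.mem_cons_of_mem _ hu))]
    split
    · rw [h w List.mem_cons_self]; rfl
    · rfl

theorem val_nil : val [] = 1 := rfl

theorem val_app (v w : List ℕ) : val (v ++ w) = val v * val w := gword_app v w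

theorem runT_eq_of_sig {v w : List ℕ} (h : sigW v = sigW w) :
    ∀ i ∈ basePts, runT Tab.perm.T Tab.perm.L v i = runT Tab.perm.T Tab.perm.L w i :=
  List.map_inj_left.1 h

theorem val_eq_of_sig {v w : List ℕ} (hv : smallW v = true) (hw : smallW w = true)
    (h : sigW v = sigW w) : val v = val w := by
  refine gword_eq_of_base (smallW_iff.1 hv) (smallW_iff.1 hw) ?_
  rw [List.all_eq_true]
  intro i hi
  rw [runT_eq_of_sig h i hi]
  exact Nat.beq_refl _

theorem sig_eq_of_val {v w : List ℕ} (hv : smallW v = true) (hw : smallW w = true)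
    (h : val v = val w) : sigW v = sigW w := by
  refine List.map_inj_left.2 fun i hi => ?_
  have hi' : i < 31671 := by
    have hb : ∀ j ∈ basePts, j < 31671 := by decide
    exact hb i hi
  have hp := congrArg (fun g => (((pi g)⁻¹ (pt i hi')) : Fin Tab.perm.n).val) h
  simp only [val, pi_gword _ (smallW_iff.1 hv), pi_gword _ (smallW_iff.1 hw)] at hp
  rw [perm_ok.gword_inv_apply v (smallW_iff.1 hv), perm_ok.gword_inv_apply w (smallW_iff.1 hw)] at hp
  exact hp

theorem sel_zero : ∀ cs : List ℕ, sel cs 0 = 0
  | [] => rfl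
  | c :: cs => by simp [sel, sel_zero cs]

theorem sel_xor : ∀ (cs : List ℕ) (v w : ℕ), sel cs (v ^^^ w) = sel cs v ^^^ sel cs w
  | [], v, w => by simp [sel]
  | c :: cs, v, w => by
    simp only [sel]
    rw [Nat.xor_div_two, sel_xor cs (v / 2) (w / 2)]
    have hm : (v ^^^ w) % 2 = (v % 2 + w % 2) % 2 := by
      rw [← Nat.add_mod]
      exact Nat.xor_mod_two_eq
    rcases Nat.mod_two_eq_zero_or_one v with hv | hv <;>
      rcases Nat.mod_two_eq_zero_or_one w with hw | hw <;>
      simp only [hm, hv, hw, Nat.reduceAdd, Nat.reduceMod, if_true, if_false,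
        Nat.zero_ne_one, Nat.zero_xor]
    · rw [Nat.xor_left_comm]
    · rw [Nat.xor_assoc]
    · rw [show c ^^^ sel cs (v / 2) ^^^ (c ^^^ sel cs (w / 2)) =
        (c ^^^ c) ^^^ (sel cs (v / 2) ^^^ sel cs (w / 2)) by
          simp only [Nat.xor_assoc, Nat.xor_left_comm]]
      simp

theorem sel_map_sel (A : List ℕ) : ∀ (B : List ℕ) (v : ℕ),
    sel A (sel B v) = sel (B.map (sel A)) v
  | [], v => by simp [sel, sel_zero]
  | b :: B, v => by
    simp only [List.map_cons, sel]
    rw [sel_xor, sel_map_sel A B (v / 2)]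
    split
    · rfl
    · rw [sel_zero]

theorem sel_lt : ∀ (cs : List ℕ), (∀ c ∈ cs, c < 2048) → ∀ v, sel cs v < 2048
  | [], _, v => by simp [sel]
  | c :: cs, h, v => by
    have h1 : sel cs (v / 2) < 2 ^ 11 :=
      sel_lt cs (fun x hx => h x (List.mem_cons_of_mem _ hx)) (v / 2)
    have h2 : (if v % 2 = 1 then c else 0) < 2 ^ 11 := by
      split
      · exact h c List.mem_cons_self
      · norm_num
    exact Nat.xor_lt_two_pow h2 h1

end CfsgLib.FiSylTwo3
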